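import Groth.Agent.EtRam93.InsepStep.Root
import Groth.Agent.EtRam93.NagataDescent
import Mathlib

/-!
# Approximation of a unit by sums `Σ π ^ i c i ^ p` stops in a Nagata ring
-/

set_option autoImplicit false
set_option linter.style.haveILetI false
set_option linter.unusedSectionVars false

universe u

open IsLocalRing Polynomial

namespace Groth.Agent.EtRam93

theorem exists_multiple_le_one {B L L' : Type u} [CommRing B] [IsDomain B] [IsDiscreteValuationRing B] [Field L]
    [Algebra B L] [IsFractionRing B L] [Field L'] [Algebra L L'] [Algebra B L'] [IsScalarTower B L L'] {p : ℕ}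
    {θ : L'} (hspan : Submodule.span L (Set.range fun i : Fin p => θ ^ (i : ℕ)) = ⊤) (g : L') :
    ∃ d : B, d ≠ 0 ∧ ∀ V : ValuationSubring L', (∀ x : B, algebraMap B L' x ∈ V) → θ ∈ V →
      algebraMap B L' d * g ∈ V := by
  classical
  obtain ⟨c, hc⟩ := (Submodule.mem_span_range_iff_exists_fun L).1
    (hspan ▸ Submodule.mem_top : g ∈ Submodule.span L (Set.range fun i : Fin p => θ ^ (i : ℕ)))
  obtain ⟨⟨d, hd0⟩, hα⟩ := IsLocalization.exist_integer_multiples (nonZeroDivisors B) Finset.univ c
  refine ⟨d, nonZeroDivisors.ne_zero hd0, fun V hBV hθ => ?_⟩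
  rw [← hc, Finset.mul_sum]
  refine sum_mem fun i _ => ?_
  obtain ⟨a, ha⟩ := hα i (Finset.mem_univ i)
  rw [Algebra.smul_def, ← mul_assoc, IsScalarTower.algebraMap_apply B L L', ← map_mul,
    ← Algebra.smul_def (R := B), ← ha, ← IsScalarTower.algebraMap_apply]
  exact mul_mem (hBV a) (pow_mem hθ _)

/-- The approximation step. -/
theorem exists_residual {B L L' : Type u} [CommRing B] [IsDomain B] [IsDiscreteValuationRing B] [Field L]
    [Algebra B L] [IsFractionRing B L] [Field L'] [Algebra L L'] [Algebra B L'] [IsScalarTower B L L']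
    [FiniteDimensional L L'] (hN : CAlg.IsNagata B) {p : ℕ} (hp : p.Prime) [CharP L p] {π : B}
    (hπ : maximalIdeal B = Ideal.span {π}) {θ : L'} (hθ : θ ^ p = algebraMap B L' π)
    (hdeg : Module.finrank L L' ≤ p) {u : B} (hu : ∀ σ : L', σ ^ p ≠ algebraMap B L' u) :
    ∃ (j : ℕ) (c : Fin j → B) (b : B), u = ∑ i : Fin j, π ^ (i : ℕ) * c i ^ p + π ^ j * b ∧
      ∀ r : B, residue B b ≠ residue B r ^ p := by
  classical
  by_contra hno
  push Not at hno
  have happ : ∀ j, ∃ (c : Fin j → B) (b : B), u = ∑ i : Fin j, π ^ (i : ℕ) * c i ^ p + π ^ j * b := by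
    intro j
    induction j with
    | zero => exact ⟨Fin.elim0, u, by simp⟩
    | succ j ih =>
      obtain ⟨c, b, hb⟩ := ih
      obtain ⟨r, hr⟩ := hno j c b hb
      obtain ⟨b', hb'⟩ := Ideal.mem_span_singleton'.1 (hπ ▸ (Ideal.Quotient.eq.1 (hr.trans (map_pow _ r p).symm)))
      refine ⟨Fin.snoc c r, b', ?_⟩
      rw [Fin.sum_univ_castSucc, pow_succ, hb]
      simp only [Fin.snoc_castSucc, Fin.snoc_last, Fin.val_castSucc, Fin.val_last]
      linear_combination -(π ^ j) * hb'
  haveI := Fact.mk hp
  haveI : CharP L' p := charP_of_injective_algebraMap (algebraMap L L').injective p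
  have hinj : Function.Injective (algebraMap B L') := algebraMap_injective_of_tower B L L'
  have hirr : Irreducible π := (IsDiscreteValuationRing.irreducible_iff_uniformizer π).2 hπ
  have hθ0 : θ ≠ 0 := fun h => hirr.ne_zero (hinj (by rw [← hθ, h, zero_pow hp.ne_zero, map_zero]))
  have ht : ∀ V, EtRam.Dominates B (algebraMap B L') V → V.valuation θ ^ p = V.valuation (algebraMap B L' π) :=
    fun V _ => by rw [← map_pow, hθ]
  have hspan : Submodule.span L (Set.range fun i : Fin p => θ ^ (i : ℕ)) = ⊤ := by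
    haveI : Nonempty (Fin p) := ⟨⟨0, hp.pos⟩⟩
    exact (linearIndependent_pow (K := L) hπ hp.pos ht).span_eq_top_of_card_eq_finrank'
      ((Fintype.card_fin p).trans (finrank_eq_of_root (K := L) hπ hp.pos ht hdeg).symm)
  obtain ⟨V, hd⟩ := exists_dominates (algebraMap B L') hinj
  have hπm : π ∈ maximalIdeal B := hπ ▸ Ideal.mem_span_singleton_self π
  have hvθ : V.valuation θ < 1 := by
    by_contra hc
    exact not_lt.2 (ht V hd ▸ one_le_pow₀ (not_lt.1 hc)) (hd.2 π hπm)
  -- the extension by a root of `u`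
  haveI : Fact (Irreducible (X ^ p - C (algebraMap B L' u))) := ⟨X_pow_sub_C_irreducible_of_prime hp hu⟩
  let N := AdjoinRoot (X ^ p - C (algebraMap B L' u))
  let pb := AdjoinRoot.powerBasis (monic_X_pow_sub_C (algebraMap B L' u) hp.ne_zero).ne_zero
  have hdim : pb.dim = p := natDegree_X_pow_sub_C
  haveI : FiniteDimensional L' N := pb.finite
  haveI : FiniteDimensional L N := Module.Finite.trans L' N
  haveI := finiteType_fractionRing B L
  haveI : Algebra.FiniteType B N := Algebra.FiniteType.trans (R := B) (S := L) inferInstance inferInstance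
  haveI : Module.Finite B (integralClosure B N) := NagataLib.finite_integralClosure_domain hN N
  let r : N := AdjoinRoot.root (X ^ p - C (algebraMap B L' u))
  haveI : CharP N p := charP_of_injective_algebraMap (algebraMap L' N).injective p
  have hr : r ^ p = algebraMap B N u := by
    have h := AdjoinRoot.eval₂_root (X ^ p - C (algebraMap B L' u))
    rw [eval₂_sub, eval₂_pow, eval₂_X, eval₂_C, sub_eq_zero] at h
    rw [IsScalarTower.algebraMap_apply B L' N]
    exact h
  let φ : N →ₗ[L'] L' := pb.basis.coord ⟨1, hdim.symm ▸ hp.one_lt⟩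
  have hφr : φ r = 1 := by
    have h : pb.basis ⟨1, hdim.symm ▸ hp.one_lt⟩ = r := by rw [pb.basis_eq_pow]; exact pow_one _
    rw [← h, Module.Basis.coord_apply, Module.Basis.repr_self, Finsupp.single_eq_same]
  have hφ1 : ∀ σ : L', φ (algebraMap L' N σ) = 0 := fun σ => by
    have h : pb.basis ⟨0, hdim.symm ▸ hp.pos⟩ = (1 : N) := by rw [pb.basis_eq_pow]; exact pow_zero _
    rw [Algebra.algebraMap_eq_smul_one σ, map_smul, ← h, Module.Basis.coord_apply, Module.Basis.repr_self,
      Finsupp.single_eq_of_ne (fun h => by simpa using congrArg Fin.val h), smul_zero]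
  -- bound on the denominators
  obtain ⟨s, hs⟩ := Module.Finite.fg_top (R := B) (M := integralClosure B N)
  choose d hd0 hdV using fun x : integralClosure B N => exists_multiple_le_one (B := B) hspan (φ (x : N))
  let D := ∏ x ∈ s, d x
  have hD0 : D ≠ 0 := Finset.prod_ne_zero_iff.2 fun x _ => hd0 x
  have hbound : ∀ x : integralClosure B N, algebraMap B L' D * φ (x : N) ∈ V := fun x => by
    have hx : x ∈ Submodule.span B (s : Set (integralClosure B N)) := hs ▸ Submodule.mem_top
    induction hx using Submodule.span_induction with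
    | mem y hy =>
      rw [show D = (∏ x ∈ s.erase y, d x) * d y from (Finset.prod_erase_mul s d hy).symm, map_mul, mul_assoc]
      exact mul_mem (hd.1 _) (hdV y V hd.1 ((V.valuation_le_one_iff _).1 hvθ.le))
    | zero => rw [ZeroMemClass.coe_zero, map_zero, mul_zero]; exact zero_mem _
    | add a b _ _ ha hb => rw [AddMemClass.coe_add, map_add, mul_add]; exact add_mem ha hb
    | smul c a _ ha =>
      rw [show ((c • a : integralClosure B N) : N) = c • (a : N) from rfl, ← algebraMap_smul L' c (a : N), map_smul,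
        smul_eq_mul, mul_left_comm]
      exact mul_mem (hd.1 c) ha
  obtain ⟨m, w, hw⟩ := IsDiscreteValuationRing.eq_unit_mul_pow_irreducible hD0 hirr
  obtain ⟨c, b, hcb⟩ := happ (p * m + 1)
  let σ : L' := ∑ i : Fin (p * m + 1), θ ^ (i : ℕ) * algebraMap B L' (c i)
  let e : N := algebraMap L' N (θ ^ (p * m + 1))⁻¹ * (r - algebraMap L' N σ)
  have he : e ^ p = algebraMap B N b := by
    show (algebraMap L' N (θ ^ (p * m + 1))⁻¹ * (r - algebraMap L' N σ)) ^ p = _
    rw [mul_pow, sub_pow_char, hr, IsScalarTower.algebraMap_apply B L' N, IsScalarTower.algebraMap_apply B L' N,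
      ← map_pow, ← map_pow, ← map_sub, ← map_mul]
    congr 1
    have hσ : σ ^ p = ∑ i : Fin (p * m + 1), algebraMap B L' (π ^ (i : ℕ) * c i ^ p) := by
      rw [sum_pow_char]
      refine Finset.sum_congr rfl fun i _ => ?_
      rw [mul_pow, ← pow_mul, mul_comm (i : ℕ), pow_mul, hθ, map_mul, map_pow, map_pow]
    rw [hσ, hcb, map_add, map_sum, add_sub_cancel_left, inv_pow, ← pow_mul, mul_comm _ p, pow_mul, hθ, map_mul, map_pow,
      inv_mul_cancel_left₀]
    exact pow_ne_zero _ fun h => hirr.ne_zero (hinj (h.trans (map_zero _).symm))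
  have hemem : e ∈ integralClosure B N := IsIntegral.of_pow hp.pos (he ▸ isIntegral_algebraMap)
  have h1 := hbound ⟨e, hemem⟩
  have hφe : φ e = (θ ^ (p * m + 1))⁻¹ := by
    show φ (algebraMap L' N (θ ^ (p * m + 1))⁻¹ * (r - algebraMap L' N σ)) = _
    rw [← Algebra.smul_def, map_smul, map_sub, hφr, hφ1, sub_zero, smul_eq_mul, mul_one]
  rw [show ((⟨e, hemem⟩ : integralClosure B N) : N) = e from rfl, hφe, ← V.valuation_le_one_iff, map_mul, map_inv₀,
    map_pow, ← div_eq_mul_inv, div_le_one₀ (pow_pos (zero_lt_iff.2 ((Valuation.ne_zero_iff _).2 hθ0)) _), hw, map_mul, map_mul,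
    valuation_unit hd, one_mul, map_pow, map_pow, ← hθ, map_pow, ← pow_mul] at h1
  have := (pow_right_strictAnti₀ (zero_lt_iff.2 ((Valuation.ne_zero_iff _).2 hθ0)) hvθ).le_iff_ge.1 h1
  omega

end Groth.Agent.EtRam93
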