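import Groth.Agent.EtRam93.InsepStep.Approx
import Groth.Agent.EtRam93.DegPow
import Groth.Agent.EtRam46.Tower
import Mathlib

/-!
# The trichotomy for a purely inseparable step of degree `p`
-/

set_option autoImplicit false
set_option linter.style.haveILetI false
set_option linter.unusedSectionVars false

universe u

open IsLocalRing Polynomial TensorProduct

namespace Groth.Agent.EtRam93

/-- The valuation subring given by a DVR in its fraction field. -/
theorem exists_valuationSubring_range (C M : Type u) [CommRing C] [IsDomain C] [IsDiscreteValuationRing C] [Field M]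
    [Algebra C M] [IsFractionRing C M] : ∃ V : ValuationSubring M, (∀ x : M, x ∈ V ↔ x ∈ (algebraMap C M).range) ∧
      EtRam.Dominates C (algebraMap C M) V := by
  let V : ValuationSubring M :=
    ⟨(algebraMap C M).range, fun x => (ValuationRing.isInteger_or_isInteger C x).imp id id⟩
  refine ⟨V, fun x => Iff.rfl, fun c => ⟨c, rfl⟩, fun c hc => ?_⟩
  refine (V.valuation_lt_one_iff ⟨algebraMap C M c, c, rfl⟩).1 ((mem_maximalIdeal _).2 fun hu => ?_)
  obtain ⟨⟨y, c', hc'⟩, hy⟩ := hu.exists_right_inv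
  have h : algebraMap C M (c * c') = algebraMap C M 1 := by
    rw [map_mul, map_one, hc']; exact congrArg Subtype.val hy
  exact (mem_maximalIdeal _).1 hc (IsUnit.of_mul_eq_one c' (IsFractionRing.injective C M h))

/-- No `p`th root of a uniformizer in the fraction field. -/
theorem pow_ne_uniformizer {B L : Type u} [CommRing B] [IsDomain B] [IsDiscreteValuationRing B] [Field L] [Algebra B L]
    [IsFractionRing B L] {p : ℕ} (hp : p.Prime) {π : B} (hπ : Irreducible π) (σ : L) :
    σ ^ p ≠ algebraMap B L π := by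
  intro h
  obtain ⟨V, hV, hd⟩ := exists_valuationSubring_range B L
  have hσ : σ ∈ V := by
    rw [← V.valuation_le_one_iff]
    refine (pow_le_one_iff hp.ne_zero).1 ?_
    rw [← map_pow, h]
    exact (V.valuation_le_one_iff _).2 (hd.1 π)
  obtain ⟨s, rfl⟩ := (hV σ).1 hσ
  rw [← map_pow] at h
  exact hπ.not_isUnit ((hπ.isUnit_or_isUnit (a := s) (b := s ^ (p - 1)) (by
    rw [← pow_succ', Nat.sub_add_cancel hp.one_le]; exact (IsFractionRing.injective B L h).symm)).elim
    (fun hu => IsFractionRing.injective B L h ▸ hu.pow p)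
    (fun hu => IsFractionRing.injective B L h ▸ ((isUnit_pow_iff (by have := hp.two_le; omega)).1 hu).pow p))

theorem pow_sub_one_le {F : Type u} [Field F] (V : ValuationSubring F) {w : F} (hw : w ∈ V) (i : ℕ) :
    V.valuation (1 - w ^ i) ≤ V.valuation (1 - w) := by
  rw [show 1 - w ^ i = (1 - w) * ∑ k ∈ Finset.range i, w ^ k from (mul_neg_geom_sum w i).symm, map_mul]
  exact mul_le_of_le_one_right' ((V.valuation_le_one_iff _).2 (sum_mem fun k _ => pow_mem hw k))

/-- The estimate `t ^ p ≡ b` behind the third case. -/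
theorem residual_estimate {F : Type u} [Field F] (V : ValuationSubring F) (p : ℕ) [Fact p.Prime] [CharP F p] {j : ℕ}
    {π π₁ w u b πC : F} (c : Fin j → F) (hπ0 : π ≠ 0) (hπ : V.valuation π < 1)
    (hw : V.valuation (1 - w) ≤ V.valuation π ^ (j + 1)) (hu : u ∈ V) (hb : b ∈ V) (hc : ∀ i, c i ∈ V)
    (h₁ : π₁ ^ p = π * w) (hC : πC ^ p = u * π)
    (hsum : u = ∑ i : Fin j, π ^ (i : ℕ) * c i ^ p + π ^ j * b) :
    V.valuation (((πC / π₁ - ∑ i : Fin j, π₁ ^ (i : ℕ) * c i) / π₁ ^ j) ^ p - b) < 1 := by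
  have hπle : V.valuation π ^ (j + 1) < 1 := pow_lt_one₀ zero_le hπ j.succ_ne_zero
  have hwv : V.valuation w = 1 := by
    rw [show w = 1 + -(1 - w) by ring, Valuation.map_add_eq_of_lt_left, map_one]
    rw [Valuation.map_neg, map_one]
    exact hw.trans_lt hπle
  have hw0 : w ≠ 0 := fun h => by rw [h, map_zero] at hwv; exact zero_ne_one hwv
  have hwV : w ∈ V := (V.valuation_le_one_iff w).1 hwv.le
  have hwiV : w⁻¹ ∈ V := (V.valuation_le_one_iff _).1 (by rw [map_inv₀, hwv, inv_one])
  rw [div_pow, sub_pow_char, div_pow, sum_pow_char, hC, h₁, ← pow_mul, mul_comm j p, pow_mul, h₁,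
    mul_comm π w, mul_div_mul_right _ _ hπ0, mul_comm w π, div_sub' (pow_ne_zero _ (mul_ne_zero hπ0 hw0)), map_div₀]
  have hden : V.valuation ((π * w) ^ j) = V.valuation π ^ j := by rw [map_pow, map_mul, hwv, mul_one]
  rw [hden, div_lt_one₀ (pow_pos (zero_lt_iff.2 ((Valuation.ne_zero_iff _).2 hπ0)) j)]
  refine lt_of_le_of_lt ?_ (pow_lt_pow_right_of_lt_one₀ (zero_lt_iff.2 ((Valuation.ne_zero_iff _).2 hπ0)) hπ j.lt_succ_self)
  refine le_trans ?_ hw
  have hterm : ∀ (i : ℕ) (x : F), x ∈ V → V.valuation (x * (1 - w ^ i)) ≤ V.valuation (1 - w) := fun i x hx => by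
    rw [map_mul]
    exact (mul_le_of_le_one_left' ((V.valuation_le_one_iff x).2 hx)).trans (pow_sub_one_le V hwV i)
  have heq : u / w - ∑ i : Fin j, (π₁ ^ (i : ℕ) * c i) ^ p - (π * w) ^ j * b =
      u * w⁻¹ * (1 - w ^ 1) + (∑ i : Fin j, π ^ (i : ℕ) * c i ^ p * (1 - w ^ (i : ℕ)) + π ^ j * b * (1 - w ^ j)) := by
    have h2 : ∀ i : Fin j, (π₁ ^ (i : ℕ) * c i) ^ p = (π * w) ^ (i : ℕ) * c i ^ p := fun i => by
      rw [mul_pow, ← pow_mul, mul_comm (i : ℕ) p, pow_mul, h₁]
    simp only [h2, mul_sub, mul_one, Finset.sum_sub_distrib]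
    have h3 : ∀ i : Fin j, π ^ (i : ℕ) * c i ^ p * w ^ (i : ℕ) = (π * w) ^ (i : ℕ) * c i ^ p := fun i => by
      rw [mul_pow]; ring
    simp only [h3]
    rw [pow_one, div_eq_mul_inv, mul_pow π w j]
    field_simp
    first | linear_combination w * hsum | linear_combination hsum | linear_combination -hsum
  have hπV : π ∈ V := (V.valuation_le_one_iff π).1 hπ.le
  rw [heq]
  refine (Valuation.map_add _ _ _).trans (max_le (hterm 1 _ (mul_mem hu hwiV)) ((Valuation.map_add _ _ _).trans
    (max_le (Valuation.map_sum_le _ fun i _ => hterm i _ (mul_mem (pow_mem hπV _) (pow_mem (hc i) p)))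
      (hterm j _ (mul_mem (pow_mem hπV _) hb)))))

theorem insep_trichotomy (p : ℕ) (hp : p.Prime) (A B C K L M : Type u)
    [CommRing A] [IsDomain A] [IsDiscreteValuationRing A] [CommRing B] [IsDomain B] [IsDiscreteValuationRing B]
    [CommRing C] [IsDomain C] [IsDiscreteValuationRing C]
    [Algebra A B] [Algebra B C] [Algebra A C] [IsScalarTower A B C]
    (hAB : Function.Injective (algebraMap A B)) (hBC : Function.Injective (algebraMap B C))
    [IsLocalHom (algebraMap A B)] [IsLocalHom (algebraMap B C)]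
    [Field K] [Field L] [Field M] [Algebra A K] [IsFractionRing A K] [Algebra B L] [IsFractionRing B L]
    [Algebra C M] [IsFractionRing C M] [Algebra K L] [Algebra L M] [Algebra K M] [IsScalarTower K L M]
    [Algebra A L] [IsScalarTower A K L] [IsScalarTower A B L] [Algebra B M] [IsScalarTower B L M] [IsScalarTower B C M]
    [Algebra A M] [IsScalarTower A K M] [IsScalarTower A C M]
    (π : A) (hπ : IsLocalRing.maximalIdeal A = Ideal.span {π}) (hB : CAlg.IsNagata B)
    (hw : EtRam.IsWeaklyUnramified A B) [IsPurelyInseparable L M] (hdeg : Module.finrank L M = p) :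
    EtRam.IsWeaklyUnramified A C ∨
      (∃ c : C, c ^ p = algebraMap A C π ∧ Algebra.adjoin B {c} = ⊤) ∨
      ∃ (K₁ : Type u) (_ : Field K₁) (_ : Algebra K K₁),
        Module.finrank K K₁ = p ∧ Algebra.IsSeparable K K₁ ∧
          EtRam.IsTotallyRamified A ((algebraMap K K₁).comp (algebraMap A K)) ∧
          IsField (L ⊗[K] K₁) ∧ IsField (M ⊗[K] K₁) ∧
          EtRam.IsWeakSolution B K L K₁ ∧ EtRam.IsWeakSolution C K M K₁ := by
  classical
  haveI := Fact.mk hp
  haveI : FiniteDimensional L M := Module.finite_of_finrank_pos (hdeg ▸ hp.pos)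
  -- characteristic
  obtain ⟨q, hq⟩ := ExpChar.exists L
  obtain ⟨k, hk⟩ := IsPurelyInseparable.finrank_eq_pow L M q
  haveI : CharP L p := by
    rw [hdeg] at hk
    cases hq with
    | zero => rw [one_pow] at hk; exact absurd hk hp.ne_one
    | prime hq' =>
      rename_i hc
      have : q = p := ((Nat.prime_dvd_prime_iff_eq hp hq').1 (hp.dvd_of_dvd_pow (dvd_of_eq hk))).symm
      exact this ▸ hc
  haveI : CharP M p := charP_of_injective_algebraMap (algebraMap L M).injective p
  have hpowM : ∀ x : M, ∃ l : L, algebraMap L M l = x ^ p := fun x => by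
    haveI := ExpChar.prime (R := L) hp
    obtain ⟨n, y, hy⟩ := IsPurelyInseparable.minpoly_eq_X_pow_sub_C L p x
    have hn : n ≤ 1 := by
      have h := minpoly.natDegree_le (A := L) x
      rw [hy, natDegree_X_pow_sub_C, hdeg] at h
      exact (Nat.pow_le_pow_iff_right hp.one_lt).1 (h.trans_eq (pow_one p).symm)
    have h2 := minpoly.aeval L x
    rw [hy, map_sub, map_pow, aeval_X, aeval_C, sub_eq_zero] at h2
    interval_cases n
    · exact ⟨y ^ p, by rw [map_pow, ← h2, pow_zero, pow_one]⟩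
    · exact ⟨y, by rw [← h2, pow_one]⟩
  -- uniformizers
  set πB := algebraMap A B π with hπBdef
  have hπB : maximalIdeal B = Ideal.span {πB} := by
    rw [← hw, hπ, Ideal.map_span, Set.image_singleton]
  have hirrB : Irreducible πB := (IsDiscreteValuationRing.irreducible_iff_uniformizer πB).2 hπB
  obtain ⟨πC, hπC⟩ := IsDiscreteValuationRing.exists_irreducible C
  have hπC0 : algebraMap B C πB ≠ 0 := fun h => hirrB.ne_zero (hBC (h.trans (map_zero _).symm))
  obtain ⟨e, ε, hε⟩ := IsDiscreteValuationRing.eq_unit_mul_pow_irreducible hπC0 hπC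
  have hAC : algebraMap A C π = algebraMap B C πB := IsScalarTower.algebraMap_apply A B C π
  by_cases he : e = 1
  · refine Or.inl ?_
    show (maximalIdeal A).map (algebraMap A C) = maximalIdeal C
    rw [hπ, Ideal.map_span, Set.image_singleton, hAC, hε, he, pow_one, hπC.maximalIdeal_eq,
      Ideal.span_singleton_mul_left_unit ε.isUnit]
  obtain ⟨l, hl⟩ := hpowM (algebraMap C M πC)
  obtain ⟨a, d, hd, hld⟩ := IsFractionRing.div_surjective (A := B) l
  have hrel : algebraMap B C d * πC ^ p = algebraMap B C a := by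
    refine IsFractionRing.injective C M ?_
    rw [map_mul, map_pow, ← hl, ← IsScalarTower.algebraMap_apply, ← IsScalarTower.algebraMap_apply,
      IsScalarTower.algebraMap_apply B L M, IsScalarTower.algebraMap_apply B L M, ← map_mul, ← hld,
      mul_div_cancel₀ _ (IsFractionRing.to_map_ne_zero_of_mem_nonZeroDivisors hd)]
  have ha0 : a ≠ 0 := fun h => by
    rw [h, map_zero, mul_eq_zero] at hrel
    rcases hrel with h' | h'
    · exact nonZeroDivisors.ne_zero hd (hBC (h'.trans (map_zero _).symm))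
    · exact pow_ne_zero p hπC.ne_zero h'
  obtain ⟨i, wa, rfl⟩ := IsDiscreteValuationRing.eq_unit_mul_pow_irreducible ha0 hirrB
  obtain ⟨k', wd, rfl⟩ := IsDiscreteValuationRing.eq_unit_mul_pow_irreducible (nonZeroDivisors.ne_zero hd) hirrB
  have hexp : e * k' + p = e * i := by
    have hrel' := hrel
    rw [map_mul, map_mul, map_pow, map_pow, hε, mul_pow, mul_pow, ← pow_mul, ← pow_mul] at hrel'
    have h1 : ((wd.map (algebraMap B C).toMonoidHom * ε ^ k' : Cˣ) : C) * πC ^ (e * k' + p) =
        ((wa.map (algebraMap B C).toMonoidHom * ε ^ i : Cˣ) : C) * πC ^ (e * i) := by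
      simp only [Units.val_mul, Units.val_pow_eq_pow_val, Units.coe_map]
      refine Eq.trans ?_ (hrel'.trans ?_)
      · simp only [RingHom.toMonoidHom_eq_coe, MonoidHom.coe_coe, pow_add]; ring
      · simp only [RingHom.toMonoidHom_eq_coe, MonoidHom.coe_coe]; ring
    exact IsDiscreteValuationRing.unit_mul_pow_congr_pow hπC hπC _ _ _ _ h1
  have hep : e = p := by
    refine ((Nat.dvd_prime hp).1 ⟨i - k', ?_⟩).resolve_left he
    rw [Nat.mul_sub, ← hexp, Nat.add_sub_cancel_left]
  subst hep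
  obtain rfl : i = k' + 1 := by
    refine Nat.eq_of_mul_eq_mul_left hp.pos ?_
    rw [mul_add, mul_one]; exact hexp.symm
  let u : Bˣ := wd⁻¹ * wa
  have hu : algebraMap C M πC ^ e = algebraMap B M ((u : B) * πB) := by
    rw [← hl, IsScalarTower.algebraMap_apply B L M, ← hld]
    congr 1
    rw [div_eq_iff (IsFractionRing.to_map_ne_zero_of_mem_nonZeroDivisors hd), ← map_mul]
    congr 1
    simp only [u, Units.val_mul]
    calc (wa : B) * πB ^ (k' + 1) = ((wd : B) * ↑wd⁻¹) * (wa * πB ^ (k' + 1)) := by rw [Units.mul_inv, one_mul]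
      _ = _ := by ring
  -- the field `L (π ^ (1 / p))`
  haveI : Fact (Irreducible (X ^ e - Polynomial.C (algebraMap B L πB))) :=
    ⟨X_pow_sub_C_irreducible_of_prime hp (pow_ne_uniformizer hp hirrB)⟩
  let L' := AdjoinRoot (X ^ e - Polynomial.C (algebraMap B L πB))
  let θ : L' := AdjoinRoot.root _
  have hθ : θ ^ e = algebraMap B L' πB := by
    have h := AdjoinRoot.eval₂_root (X ^ e - Polynomial.C (algebraMap B L πB))
    rw [eval₂_sub, eval₂_pow, eval₂_X, eval₂_C, sub_eq_zero] at h
    rw [IsScalarTower.algebraMap_apply B L L']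
    exact h
  let pb' := AdjoinRoot.powerBasis (monic_X_pow_sub_C (algebraMap B L πB) hp.ne_zero).ne_zero
  haveI : FiniteDimensional L L' := pb'.finite
  have hfinL' : Module.finrank L L' = e := pb'.finrank.trans natDegree_X_pow_sub_C
  by_cases hσ : ∃ σ : L', σ ^ e = algebraMap B L' u
  · refine Or.inr (Or.inl ?_)
    obtain ⟨σ, hσ⟩ := hσ
    have hirr2 : Irreducible (X ^ e - Polynomial.C (algebraMap B L ((u : B) * πB))) :=
      X_pow_sub_C_irreducible_of_prime hp (pow_ne_uniformizer hp ((irreducible_units_mul u).2 hirrB))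
    haveI := Fact.mk hirr2
    let pb := AdjoinRoot.powerBasis (monic_X_pow_sub_C (algebraMap B L ((u : B) * πB)) hp.ne_zero).ne_zero
    haveI : FiniteDimensional L (AdjoinRoot (X ^ e - Polynomial.C (algebraMap B L ((u : B) * πB)))) := pb.finite
    let ψ := AdjoinRoot.liftAlgHom (X ^ e - Polynomial.C (algebraMap B L ((u : B) * πB))) (Algebra.ofId L L') (σ * θ) (by
      show eval₂ (algebraMap L L') _ _ = 0
      rw [eval₂_sub, eval₂_pow, eval₂_X, eval₂_C, mul_pow, hσ, hθ, ← IsScalarTower.algebraMap_apply B L L' ((u : B) * πB),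
        map_mul, sub_self])
    let χ := AdjoinRoot.liftAlgHom (X ^ e - Polynomial.C (algebraMap B L ((u : B) * πB))) (Algebra.ofId L M) (algebraMap C M πC) (by
      show eval₂ (algebraMap L M) _ _ = 0
      rw [eval₂_sub, eval₂_pow, eval₂_X, eval₂_C, hu, ← IsScalarTower.algebraMap_apply B L M, sub_self])
    have hsurj : Function.Surjective ψ := (LinearMap.injective_iff_surjective_of_finrank_eq_finrank
      (f := ψ.toLinearMap) (by rw [pb.finrank, hfinL']; exact natDegree_X_pow_sub_C)).1 ψ.toRingHom.injective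
    obtain ⟨g, hg⟩ := hsurj θ
    have hg' : g ^ e = algebraMap L _ (algebraMap B L πB) := ψ.toRingHom.injective (by
      show ψ (g ^ e) = ψ _
      rw [map_pow, hg, hθ, AlgHom.commutes, ← IsScalarTower.algebraMap_apply B L L' πB])
    let c₀ := χ g
    have hc₀ : c₀ ^ e = algebraMap B M πB := by
      show χ g ^ e = _
      rw [← map_pow, hg', AlgHom.commutes, ← IsScalarTower.algebraMap_apply B L M]
    obtain ⟨c, hc⟩ := IsIntegrallyClosed.isIntegral_iff.1 (show IsIntegral C c₀ from
      IsIntegral.of_pow hp.pos (by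
        rw [hc₀, IsScalarTower.algebraMap_apply B C M]; exact isIntegral_algebraMap))
    refine ⟨c, IsFractionRing.injective C M ?_, eq_top_iff.2 fun x _ => ?_⟩
    · rw [map_pow, hc, hc₀, hAC, ← IsScalarTower.algebraMap_apply B C M]
    · obtain ⟨V, hV, hd'⟩ := exists_valuationSubring_range C M
      have hdB : EtRam.Dominates B (algebraMap B M) V := by
        rw [IsScalarTower.algebraMap_eq B C M]
        exact ⟨fun b => hd'.1 _, fun b hb => hd'.2 _ ((mem_maximalIdeal _).2 fun hu => (mem_maximalIdeal _).1 hb (IsLocalHom.map_nonunit b hu))⟩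
      obtain ⟨α, hα⟩ := (mem_iff_exists_sum (K := L) hπB hp.pos (t := c₀)
        (fun V _ => by rw [← map_pow, hc₀]) hdeg.le hdB (algebraMap C M x)).1 (hd'.1 x)
      have : x = ∑ i : Fin e, algebraMap B C (α i) * c ^ (i : ℕ) := IsFractionRing.injective C M (by
        rw [hα, map_sum]
        exact Finset.sum_congr rfl fun i _ => by rw [map_mul, map_pow, hc, ← IsScalarTower.algebraMap_apply])
      rw [this]
      exact sum_mem fun i _ => mul_mem (Subalgebra.algebraMap_mem _ _) (pow_mem (Algebra.self_mem_adjoin_singleton B c) _)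
  -- the third case
  push Not at hσ
  obtain ⟨j, c, b, hcb, hb⟩ := exists_residual hB hp hπB hθ hfinL'.le hσ
  obtain ⟨K₁, _, _, _, _, hK₁, hK₁sep, hK₁ram, π₁, b₀, -, hπ₁int, hb₀int, -, hrel₁, -⟩ :=
    exists_totallyRamified_pow A K π hπ (j + 2) (by omega) e hp.pos
  refine Or.inr (Or.inr ⟨K₁, inferInstance, inferInstance, hK₁, hK₁sep, by
    rwa [← IsScalarTower.algebraMap_eq], ?_⟩)
  haveI : FiniteDimensional K K₁ := Module.finite_of_finrank_pos (hK₁ ▸ hp.pos)
  -- in any field over `L` and `K₁`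
  have hfacts : ∀ (F : Type u) [Field F] [Algebra L F] [Algebra B F] [IsScalarTower B L F] (f : K₁ →+* F),
      f.comp (algebraMap K K₁) = (algebraMap L F).comp (algebraMap K L) →
      ∀ W : ValuationSubring F, EtRam.Dominates B (algebraMap B F) W →
        ∃ w : F, f π₁ ^ e = algebraMap B F πB * w ∧
          W.valuation (1 - w) ≤ W.valuation (algebraMap B F πB) ^ (j + 1) ∧ W.valuation w = 1 := by
    intro F _ _ _ _ f hf W hW
    have hAF : ∀ x : A, f (algebraMap A K₁ x) = algebraMap B F (algebraMap A B x) := fun x => by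
      rw [IsScalarTower.algebraMap_apply A K K₁, ← RingHom.comp_apply, hf, RingHom.comp_apply,
        ← IsScalarTower.algebraMap_apply A K L, IsScalarTower.algebraMap_apply A B L, ← IsScalarTower.algebraMap_apply B L F]
    have hb₀ : f b₀ ∈ W := by
      let gA : A →+* W := ((algebraMap B F).comp (algebraMap A B)).codRestrict W fun x => hW.1 _
      letI := gA.toAlgebra
      letI : Algebra A F := ((algebraMap B F).comp (algebraMap A B)).toAlgebra
      haveI : IsScalarTower A W F := IsScalarTower.of_algebraMap_eq fun _ => rfl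
      let f' : K₁ →ₐ[A] F := { toRingHom := f, commutes' := hAF }
      obtain ⟨z, hz⟩ := IsIntegrallyClosed.isIntegral_iff.1
        (((hb₀int : IsIntegral A b₀).map f').tower_top (A := W))
      rw [show f b₀ = f' b₀ from rfl, ← hz]; exact z.2
    refine ⟨1 + algebraMap B F πB ^ (j + 1) * f b₀, ?_, ?_, ?_⟩
    · rw [← map_pow, hrel₁, map_add, map_mul, map_pow, hAF]; ring
    · rw [sub_add_cancel_left, Valuation.map_neg, map_mul, map_pow]
      exact mul_le_of_le_one_right' ((W.valuation_le_one_iff _).2 hb₀)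
    · rw [Valuation.map_add_eq_of_lt_left, map_one]
      rw [map_mul, map_pow, map_one]
      exact (mul_le_of_le_one_right' ((W.valuation_le_one_iff _).2 hb₀)).trans_lt
        (pow_lt_one₀ zero_le (hW.2 πB (hπB ▸ Ideal.mem_span_singleton_self _)) (Nat.succ_ne_zero j))
  have hroot : ∀ (F : Type u) [Field F] [Algebra L F] [Algebra B F] [IsScalarTower B L F] (f : K₁ →+* F),
      f.comp (algebraMap K K₁) = (algebraMap L F).comp (algebraMap K L) →
      ∀ W : ValuationSubring F, EtRam.Dominates B (algebraMap B F) W →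
        W.valuation (f π₁) ^ e = W.valuation (algebraMap B F πB) := by
    intro F _ _ _ _ f hf W hW
    obtain ⟨w, hw1, -, hw2⟩ := hfacts F f hf W hW
    rw [← map_pow, hw1, map_mul, hw2, mul_one]
  -- `L ⊗ K₁` is a field
  haveI : Algebra.IsSeparable K K₁ := hK₁sep
  haveI : IsReduced (L ⊗[K] K₁) := by
    haveI := isReduced_tensor_of_isSeparable K K₁ L
    exact isReduced_of_injective (Algebra.TensorProduct.comm K L K₁) (Algebra.TensorProduct.comm K L K₁).injective
  have hdimT : Module.finrank L (L ⊗[K] K₁) = e := (Module.finrank_baseChange (R := L) (S := K) (M' := K₁)).trans hK₁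
  have hFL : IsField (L ⊗[K] K₁) := by
    haveI : Nontrivial (L ⊗[K] K₁) := Module.nontrivial_of_finrank_pos (R := L) (hdimT ▸ hp.pos)
    obtain ⟨Q, hQ⟩ := Ideal.exists_maximal (L ⊗[K] K₁)
    letI := Ideal.Quotient.field Q
    haveI : FiniteDimensional L ((L ⊗[K] K₁) ⧸ Q) :=
      Module.Finite.of_surjective (Ideal.Quotient.mkₐ L Q).toLinearMap Ideal.Quotient.mk_surjective
    have hle : Module.finrank L ((L ⊗[K] K₁) ⧸ Q) ≤ e :=
      hdimT ▸ LinearMap.finrank_le_finrank_of_surjective (f := (Ideal.Quotient.mkₐ L Q).toLinearMap)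
        Ideal.Quotient.mk_surjective
    haveI : IsScalarTower B L ((L ⊗[K] K₁) ⧸ Q) := inferInstance
    let f : K₁ →+* (L ⊗[K] K₁) ⧸ Q :=
      (Ideal.Quotient.mk Q).comp (Algebra.TensorProduct.includeRight : K₁ →ₐ[K] L ⊗[K] K₁).toRingHom
    have hf : f.comp (algebraMap K K₁) = (algebraMap L _).comp (algebraMap K L) := RingHom.ext fun x => by
      show Ideal.Quotient.mk Q ((1 : L) ⊗ₜ[K] algebraMap K K₁ x) = Ideal.Quotient.mk Q (algebraMap K L x ⊗ₜ[K] (1 : K₁))
      rw [Algebra.algebraMap_eq_smul_one, Algebra.algebraMap_eq_smul_one, TensorProduct.smul_tmul]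
    have heq := finrank_eq_of_root (K := L) hπB hp.pos (t := f π₁) (fun W hW => hroot _ f hf W hW) hle
    have hinjQ : Function.Injective (Ideal.Quotient.mkₐ L Q).toLinearMap :=
      (LinearMap.injective_iff_surjective_of_finrank_eq_finrank (f := (Ideal.Quotient.mkₐ L Q).toLinearMap)
        (by rw [hdimT]; exact heq.symm)).2 Ideal.Quotient.mk_surjective
    exact MulEquiv.isField (Field.toIsField ((L ⊗[K] K₁) ⧸ Q))
      (RingEquiv.ofBijective (Ideal.Quotient.mk Q) ⟨hinjQ, Ideal.Quotient.mk_surjective⟩).toMulEquiv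
  have hFM : IsField (M ⊗[K] K₁) := by
    haveI : IsReduced (M ⊗[K] K₁) := by
      haveI := isReduced_tensor_of_isSeparable K K₁ M
      exact isReduced_of_injective (Algebra.TensorProduct.comm K M K₁) (Algebra.TensorProduct.comm K M K₁).injective
    haveI : Nontrivial (M ⊗[K] K₁) := (Algebra.TensorProduct.includeLeft_injective (S := M) (A := M) (B := K₁)
      (algebraMap K K₁).injective).nontrivial
    haveI : CharP (M ⊗[K] K₁) e := charP_of_injective_algebraMap (algebraMap M _).injective e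
    let ι : L ⊗[K] K₁ →ₐ[K] M ⊗[K] K₁ := Algebra.TensorProduct.map (IsScalarTower.toAlgHom K L M) (AlgHom.id K K₁)
    have hpow : ∀ x, ∃ y, ι y = x ^ e := fun x => by
      induction x using TensorProduct.induction_on with
      | zero => exact ⟨0, by rw [map_zero, zero_pow hp.ne_zero]⟩
      | tmul m y =>
        obtain ⟨l, hl⟩ := hpowM m
        exact ⟨l ⊗ₜ (y ^ e), by rw [Algebra.TensorProduct.tmul_pow, ← hl]; rfl⟩
      | add x y hx hy =>
        obtain ⟨a, ha⟩ := hx
        obtain ⟨b, hb⟩ := hy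
        exact ⟨a + b, by rw [map_add, ha, hb, add_pow_char]⟩
    refine ⟨exists_pair_ne _, mul_comm, fun {x} hx => ?_⟩
    obtain ⟨y, hy⟩ := hpow x
    have hy0 : y ≠ 0 := fun h => hx (IsReduced.eq_zero x ⟨e, by rw [← hy, h, map_zero]⟩)
    obtain ⟨z, hz⟩ := hFL.mul_inv_cancel hy0
    refine ⟨x ^ (e - 1) * ι z, ?_⟩
    rw [← mul_assoc, ← pow_succ', Nat.sub_add_cancel hp.one_le, ← hy, ← map_mul, hz, map_one]
  refine ⟨hFL, hFM, ?_, ?_⟩
  · -- weak solution for `B`
    intro M₂ _ _ _ _ _ _ hgen W hW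
    letI : Algebra B M₂ := ((algebraMap L M₂).comp (algebraMap B L)).toAlgebra
    haveI : IsScalarTower B L M₂ := IsScalarTower.of_algebraMap_eq fun _ => rfl
    let Φ : L ⊗[K] K₁ →ₐ[L] M₂ :=
      Algebra.TensorProduct.lift (Algebra.ofId L M₂) (IsScalarTower.toAlgHom K K₁ M₂) fun _ _ => Commute.all _ _
    have hΦ : Function.Surjective Φ := by
      rw [← AlgHom.range_eq_top, eq_top_iff, ← hgen]
      refine Algebra.adjoin_le ?_
      rintro _ ⟨x, rfl⟩
      exact ⟨1 ⊗ₜ x, by simp [Φ]⟩
    haveI : FiniteDimensional L M₂ := Module.Finite.of_surjective Φ.toLinearMap hΦ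
    have hle : Module.finrank L M₂ ≤ e :=
      hdimT ▸ LinearMap.finrank_le_finrank_of_surjective (f := Φ.toLinearMap) hΦ
    have hf : (algebraMap K₁ M₂).comp (algebraMap K K₁) = (algebraMap L M₂).comp (algebraMap K L) := by
      rw [← IsScalarTower.algebraMap_eq, ← IsScalarTower.algebraMap_eq]
    have ht : ∀ V, EtRam.Dominates B (algebraMap B M₂) V →
        V.valuation (algebraMap K₁ M₂ π₁) ^ e = V.valuation (algebraMap B M₂ πB) := fun V hV => hroot _ _ hf V hV
    letI : Algebra (W.comap (algebraMap K₁ M₂)) W := (EtRam.inclOfComap W (algebraMap K₁ M₂)).toAlgebra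
    show (maximalIdeal (W.comap (algebraMap K₁ M₂))).map (EtRam.inclOfComap W (algebraMap K₁ M₂)) = maximalIdeal W
    refine le_antisymm (Ideal.map_le_iff_le_comap.2 fun x hx => (mem_maximalIdeal _).2 fun hu =>
      (mem_maximalIdeal _).1 hx (IsLocalHom.map_nonunit x hu)) fun x hx => ?_
    obtain ⟨y, hy, hxy⟩ := exists_eq_mul_root (K := L) hπB hp.pos ht hle hW ((W.valuation_lt_one_iff x).1 hx)
    have ht1 : W.valuation (algebraMap K₁ M₂ π₁) < 1 := by
      by_contra hc
      exact not_lt.2 (ht W hW ▸ one_le_pow₀ (not_lt.1 hc)) (hW.2 πB (hπB ▸ Ideal.mem_span_singleton_self _))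
    rw [show x = EtRam.inclOfComap W (algebraMap K₁ M₂) ⟨π₁, (W.valuation_le_one_iff _).1 ht1.le⟩ * ⟨y, hy⟩ from
      Subtype.ext hxy]
    exact Ideal.mul_mem_right _ _ (Ideal.mem_map_of_mem _ ((ValuationSubring.valuation_lt_one_iff _ _).2
      ((EtRam46.comap_lt_one_iff (W := W) (f := algebraMap K₁ M₂) _).2 ht1)))
  · -- weak solution for `C`
    intro M₂ _ _ _ _ _ _ hgen W hW
    letI : Algebra L M₂ := ((algebraMap M M₂).comp (algebraMap L M)).toAlgebra
    haveI : IsScalarTower L M M₂ := IsScalarTower.of_algebraMap_eq fun _ => rfl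
    haveI : IsScalarTower K L M₂ := IsScalarTower.of_algebraMap_eq fun x => by
      rw [IsScalarTower.algebraMap_apply K M M₂, IsScalarTower.algebraMap_apply K L M,
        ← IsScalarTower.algebraMap_apply L M M₂]
    letI : Algebra B M₂ := ((algebraMap L M₂).comp (algebraMap B L)).toAlgebra
    haveI : IsScalarTower B L M₂ := IsScalarTower.of_algebraMap_eq fun _ => rfl
    have hBM : ∀ x : B, algebraMap B M₂ x = algebraMap M M₂ (algebraMap B M x) := fun x => by
      rw [IsScalarTower.algebraMap_apply B L M₂, IsScalarTower.algebraMap_apply B L M,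
        ← IsScalarTower.algebraMap_apply L M M₂]
    have hWB : EtRam.Dominates B (algebraMap B M₂) W := by
      refine ⟨fun x => ?_, fun x hx => ?_⟩
      · rw [hBM, IsScalarTower.algebraMap_apply B C M]; exact hW.1 _
      · rw [hBM, IsScalarTower.algebraMap_apply B C M]
        exact hW.2 _ ((mem_maximalIdeal _).2 fun hu => (mem_maximalIdeal _).1 hx (IsLocalHom.map_nonunit x hu))
    letI : Field (L ⊗[K] K₁) := hFL.toField
    let Φ : L ⊗[K] K₁ →ₐ[L] M₂ :=
      Algebra.TensorProduct.lift (Algebra.ofId L M₂) (IsScalarTower.toAlgHom K K₁ M₂) fun _ _ => Commute.all _ _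
    letI : Algebra (L ⊗[K] K₁) M₂ := Φ.toRingHom.toAlgebra
    haveI : IsScalarTower L (L ⊗[K] K₁) M₂ := IsScalarTower.of_algebraMap_eq fun x => (Φ.commutes x).symm
    have hFinLM : FiniteDimensional L M₂ ∧ Module.finrank L M₂ ≤ e * e := by
      let Ψ : M ⊗[K] K₁ →ₐ[M] M₂ :=
        Algebra.TensorProduct.lift (Algebra.ofId M M₂) (IsScalarTower.toAlgHom K K₁ M₂) fun _ _ => Commute.all _ _
      have hΨ : Function.Surjective Ψ := by
        rw [← AlgHom.range_eq_top, eq_top_iff, ← hgen]
        refine Algebra.adjoin_le ?_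
        rintro _ ⟨x, rfl⟩
        exact ⟨1 ⊗ₜ x, by simp [Ψ]⟩
      haveI : FiniteDimensional M M₂ := Module.Finite.of_surjective Ψ.toLinearMap hΨ
      have hle : Module.finrank M M₂ ≤ e := (LinearMap.finrank_le_finrank_of_surjective (f := Ψ.toLinearMap) hΨ).trans_eq
        ((Module.finrank_baseChange (R := M) (S := K) (M' := K₁)).trans hK₁)
      refine ⟨Module.Finite.trans M M₂, ?_⟩
      rw [← Module.finrank_mul_finrank L M M₂, hdeg]
      exact Nat.mul_le_mul_left e hle
    haveI := hFinLM.1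
    haveI : FiniteDimensional (L ⊗[K] K₁) M₂ := Module.Finite.of_restrictScalars_finite L _ M₂
    have hdeg2 : Module.finrank (L ⊗[K] K₁) M₂ ≤ e := by
      refine Nat.le_of_mul_le_mul_left ?_ hp.pos
      rw [show e * Module.finrank (L ⊗[K] K₁) M₂ = Module.finrank L M₂ by
        rw [← Module.finrank_mul_finrank L (L ⊗[K] K₁) M₂, hdimT]]
      exact hFinLM.2
    -- the base valuation ring
    let g := algebraMap (L ⊗[K] K₁) M₂
    let V := W.comap g
    haveI : IsScalarTower B L (L ⊗[K] K₁) := inferInstance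
    have hBg : ∀ x, g (algebraMap B (L ⊗[K] K₁) x) = algebraMap B M₂ x := fun x =>
      (Φ.commutes (algebraMap B L x))
    have hdV : EtRam.Dominates B (algebraMap B (L ⊗[K] K₁)) V :=
      ⟨fun x => show g _ ∈ W by rw [hBg]; exact hWB.1 x, fun x hx =>
        (EtRam46.comap_lt_one_iff (W := W) (f := g) _).2 (by rw [hBg]; exact hWB.2 x hx)⟩
    haveI : IsDiscreteValuationRing V := EtRam46.isDVR_of_finite L (W := V) (by
      rwa [← IsScalarTower.algebraMap_eq B L (L ⊗[K] K₁)])
    let f₁ : K₁ →+* L ⊗[K] K₁ := (Algebra.TensorProduct.includeRight : K₁ →ₐ[K] L ⊗[K] K₁).toRingHom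
    have hf₁ : f₁.comp (algebraMap K K₁) = (algebraMap L (L ⊗[K] K₁)).comp (algebraMap K L) := RingHom.ext fun x => by
      show (1 : L) ⊗ₜ[K] algebraMap K K₁ x = algebraMap K L x ⊗ₜ[K] (1 : K₁)
      rw [Algebra.algebraMap_eq_smul_one, Algebra.algebraMap_eq_smul_one, TensorProduct.smul_tmul]
    have hgf : ∀ x, g (f₁ x) = algebraMap K₁ M₂ x := fun x => by
      show Φ ((1 : L) ⊗ₜ[K] x) = _
      simp [Φ]
    have ht₁ : ∀ V', EtRam.Dominates B (algebraMap B (L ⊗[K] K₁)) V' →
        V'.valuation (f₁ π₁) ^ e = V'.valuation (algebraMap B (L ⊗[K] K₁) πB) := fun V' hV' => hroot _ _ hf₁ V' hV'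
    have hπ₁V : V.valuation (f₁ π₁) < 1 := by
      by_contra hc
      exact not_lt.2 (ht₁ V hdV ▸ one_le_pow₀ (not_lt.1 hc)) (hdV.2 πB (hπB ▸ Ideal.mem_span_singleton_self _))
    let πV : V := ⟨f₁ π₁, (V.valuation_le_one_iff _).1 hπ₁V.le⟩
    have hmV : maximalIdeal V = Ideal.span {πV} := by
      refine le_antisymm (fun x hx => ?_) ((Ideal.span_singleton_le_iff_mem _).2 ((V.valuation_lt_one_iff πV).2 hπ₁V))
      obtain ⟨y, hy, hxy⟩ := exists_eq_mul_root (K := L) hπB hp.pos ht₁ hdimT.le hdV ((V.valuation_lt_one_iff x).1 hx)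
      exact Ideal.mem_span_singleton'.2 ⟨⟨y, hy⟩, Subtype.ext ((mul_comm _ _).trans hxy.symm)⟩

    letI : Algebra V M₂ := (g.comp V.subtype).toAlgebra
    haveI : IsScalarTower V (L ⊗[K] K₁) M₂ := IsScalarTower.of_algebraMap_eq fun _ => rfl
    let bV : V := ⟨algebraMap B (L ⊗[K] K₁) b, hdV.1 b⟩
    have hbV : ∀ r : V, residue V bV ≠ residue V r ^ e := by
      intro r hr
      obtain ⟨β, hβ⟩ := (isTotallyRamified_of_root (K := L) hπB hp.pos ht₁ hdimT.le).2.2 V hdV (residue V r)
      rw [← hβ, ← map_pow] at hr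
      letI : Algebra B V := ((algebraMap B (L ⊗[K] K₁)).codRestrict V hdV.1).toAlgebra
      have h1 : algebraMap B V (b - β ^ e) ∈ maximalIdeal V := by
        rw [map_sub, map_pow]; exact Ideal.Quotient.eq.1 hr
      refine hb β ?_
      rw [← map_pow]
      refine Ideal.Quotient.eq.2 ((mem_maximalIdeal _).2 fun hu => ?_)
      exact (mem_maximalIdeal _).1 h1 (hu.map _)
    let πM : M₂ := algebraMap M M₂ (algebraMap C M πC)
    let t : M₂ := (πM / algebraMap K₁ M₂ π₁ -
      ∑ i : Fin j, algebraMap K₁ M₂ π₁ ^ (i : ℕ) * algebraMap B M₂ (c i)) / algebraMap K₁ M₂ π₁ ^ j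
    haveI : CharP M₂ e := charP_of_injective_algebraMap (algebraMap M M₂).injective e
    have ht : ∀ U, EtRam.Dominates V (algebraMap V M₂) U →
        U.valuation (t ^ e - algebraMap V M₂ bV) < 1 := by
      intro U hU
      have hUB : EtRam.Dominates B (algebraMap B M₂) U := by
        refine ⟨fun x => ?_, fun x hx => ?_⟩
        · rw [← hBg]; exact hU.1 ⟨_, hdV.1 x⟩
        · rw [← hBg]; exact hU.2 ⟨_, hdV.1 x⟩ ((V.valuation_lt_one_iff _).2 (hdV.2 x hx))
      have hf : (algebraMap K₁ M₂).comp (algebraMap K K₁) = (algebraMap L M₂).comp (algebraMap K L) := by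
        rw [← IsScalarTower.algebraMap_eq, ← IsScalarTower.algebraMap_eq]
      obtain ⟨w, hw1, hw2, -⟩ := hfacts M₂ (algebraMap K₁ M₂) hf U hUB
      rw [show algebraMap V M₂ bV = algebraMap B M₂ b from hBg b]
      refine residual_estimate U e (fun i => algebraMap B M₂ (c i)) (π := algebraMap B M₂ πB) (w := w)
        (u := algebraMap B M₂ u) (fun h => hirrB.ne_zero (algebraMap_injective_of_tower B L M₂ (h.trans (map_zero _).symm)))
        (hUB.2 _ (hπB ▸ Ideal.mem_span_singleton_self _)) hw2 (hUB.1 _) (hUB.1 _) (fun i => hUB.1 _) hw1 ?_ ?_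
      · show algebraMap M M₂ (algebraMap C M πC) ^ e = _
        rw [← map_pow, hu, map_mul, map_mul, hBM, hBM]
      · rw [hcb, map_add, map_sum, map_mul, map_pow]
        simp only [map_mul, map_pow]
    have hWV : EtRam.Dominates V (algebraMap V M₂) W :=
      ⟨fun x => x.2, fun x hx => (EtRam46.comap_lt_one_iff (W := W) (f := g) _).1 ((V.valuation_lt_one_iff x).1 hx)⟩
    have hwu := weaklyUnramified_of_residue_pow (K := L ⊗[K] K₁) hp hmV hdeg2 hbV ht W hWV
    letI : Algebra (W.comap (algebraMap K₁ M₂)) W := (EtRam.inclOfComap W (algebraMap K₁ M₂)).toAlgebra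
    show (maximalIdeal (W.comap (algebraMap K₁ M₂))).map (EtRam.inclOfComap W (algebraMap K₁ M₂)) = maximalIdeal W
    refine le_antisymm (Ideal.map_le_iff_le_comap.2 fun x hx => (mem_maximalIdeal _).2 fun hu =>
      (mem_maximalIdeal _).1 hx (IsLocalHom.map_nonunit x hu)) ?_
    obtain ⟨ι, hι, hwu'⟩ : ∃ ι : V →+* W, (∀ x, (ι x : M₂) = g x) ∧ (maximalIdeal V).map ι = maximalIdeal W :=
      ⟨(algebraMap V M₂).codRestrict W hWV.1, fun _ => rfl, hwu⟩
    rw [← hwu', hmV, Ideal.map_span, Set.image_singleton, Ideal.span_singleton_le_iff_mem]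
    have ht1 : W.valuation (algebraMap K₁ M₂ π₁) < 1 := by
      rw [← hgf]; exact (EtRam46.comap_lt_one_iff (W := W) (f := g) _).1 hπ₁V
    rw [show ι πV = EtRam.inclOfComap W (algebraMap K₁ M₂) ⟨π₁, (W.valuation_le_one_iff _).1 ht1.le⟩ from
      Subtype.ext ((hι πV).trans (hgf π₁))]
    exact Ideal.mem_map_of_mem _ ((ValuationSubring.valuation_lt_one_iff _ _).2
      ((EtRam46.comap_lt_one_iff (W := W) (f := algebraMap K₁ M₂) _).2 ht1))

end Groth.Agent.EtRam93
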