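import Groth.Agent.EtRam93.Monogenic
import Groth.Agent.EtRam93.DegreeP
import Mathlib

/-!
# Uniformizers and residual generators in degree `p` steps
-/

set_option autoImplicit false
set_option linter.style.haveILetI false
set_option linter.unusedSectionVars false

universe u

open IsLocalRing Polynomial

namespace Groth.Agent.EtRam93

variable {A K L : Type u} [CommRing A] [IsDomain A] [IsDiscreteValuationRing A] [Field K] [Algebra A K]
  [IsFractionRing A K] [Field L] [Algebra K L] [Algebra A L] [IsScalarTower A K L] [FiniteDimensional K L]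

/-- With `v t ^ q = v π` and `[L : K] ≤ q`, the maximal ideal of the valuation ring is generated by `t`. -/
theorem exists_eq_mul_root {π : A} {t : L} {q : ℕ} (hπ : maximalIdeal A = Ideal.span {π}) (hq : 0 < q)
    (ht : ∀ V, EtRam.Dominates A (algebraMap A L) V → V.valuation t ^ q = V.valuation (algebraMap A L π))
    (hdeg : Module.finrank K L ≤ q) {V : ValuationSubring L} (hd : EtRam.Dominates A (algebraMap A L) V)
    {x : L} (hx : V.valuation x < 1) : ∃ y ∈ V, x = t * y := by
  have hπ0 : algebraMap A L π ≠ 0 := uniformizer_ne_zero hπ (algebraMap_injective_of_tower A K L)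
  have hv1 : V.valuation t < 1 := by
    by_contra hc
    exact not_lt.2 (ht V hd ▸ one_le_pow₀ (not_lt.1 hc)) (hd.2 π (hπ ▸ Ideal.mem_span_singleton_self π))
  have ht0 : t ≠ 0 := fun h => by
    have := ht V hd
    rw [h, map_zero, zero_pow hq.ne'] at this
    exact (Valuation.ne_zero_iff _).2 hπ0 this.symm
  refine ⟨x / t, ?_, by rw [mul_div_cancel₀ _ ht0]⟩
  obtain ⟨α, hα⟩ := (mem_iff_exists_sum (K := K) hπ hq ht hdeg hd x).1 ((V.valuation_le_one_iff x).1 hx.le)
  have h0 : α ⟨0, hq⟩ ∈ maximalIdeal A := by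
    by_contra hu
    obtain ⟨w, hw⟩ := not_not.1 (mt (mem_maximalIdeal _).2 hu)
    have hrest : V.valuation (∑ i ∈ Finset.univ.erase (⟨0, hq⟩ : Fin q), algebraMap A L (α i) * t ^ (i : ℕ)) < 1 := by
      refine Valuation.map_sum_lt _ one_ne_zero fun i hi => ?_
      rw [map_mul, map_pow]
      exact lt_of_le_of_lt (mul_le_of_le_one_left' ((V.valuation_le_one_iff _).2 (hd.1 _)))
        (pow_lt_one₀ zero_le hv1 fun h => (Finset.mem_erase.1 hi).1 (Fin.ext h))
    rw [hα, ← Finset.add_sum_erase _ _ (Finset.mem_univ (⟨0, hq⟩ : Fin q)), pow_zero, mul_one, ← hw,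
      Valuation.map_add_eq_of_lt_left _ (by rwa [valuation_unit hd]), valuation_unit hd] at hx
    exact lt_irrefl _ hx
  rw [hπ, Ideal.mem_span_singleton'] at h0
  obtain ⟨β, hβ⟩ := h0
  rw [← V.valuation_le_one_iff, map_div₀, div_le_one₀ (zero_lt_iff.2 ((Valuation.ne_zero_iff _).2 ht0)), hα]
  refine Valuation.map_sum_le _ fun i _ => ?_
  rw [map_mul, map_pow]
  rcases eq_or_ne (i : ℕ) 0 with hi | hi
  · rw [show i = ⟨0, hq⟩ from Fin.ext hi, pow_zero, mul_one, ← hβ, map_mul, map_mul, ← ht V hd]
    exact (mul_le_of_le_one_left' ((V.valuation_le_one_iff _).2 (hd.1 _))).trans (pow_le_of_le_one zero_le hv1.le hq.ne')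
  · exact (mul_le_of_le_one_left' ((V.valuation_le_one_iff _).2 (hd.1 _))).trans (pow_le_of_le_one zero_le hv1.le hi)

/-- An element whose `p`th power has a residue which is not a `p`th power gives a monogenic extension. -/
theorem weaklyUnramified_of_residue_pow {p : ℕ} (hp : p.Prime) {π : A} (hπ : maximalIdeal A = Ideal.span {π})
    (hdeg : Module.finrank K L ≤ p) {t : L} {b : A} (hb : ∀ r : A, residue A b ≠ residue A r ^ p)
    (ht : ∀ V, EtRam.Dominates A (algebraMap A L) V → V.valuation (t ^ p - algebraMap A L b) < 1)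
    (V : ValuationSubring L) (hd : EtRam.Dominates A (algebraMap A L) V) :
    letI : Algebra A V := ((algebraMap A L).codRestrict V hd.1).toAlgebra
    EtRam.IsWeaklyUnramified A V := by
  classical
  haveI := Fact.mk hp
  have hirr : Irreducible (X ^ p - C (residue A b)) :=
    X_pow_sub_C_irreducible_of_prime hp fun c hc => by
      obtain ⟨r, rfl⟩ := residue_surjective c
      exact hb r hc.symm
  have hw : ∀ V, EtRam.Dominates A (algebraMap A L) V → t ∈ V := fun V hd => by
    rw [← V.valuation_le_one_iff]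
    refine (pow_le_one_iff hp.ne_zero).1 ?_
    rw [← map_pow, ← sub_add_cancel (t ^ p) (algebraMap A L b)]
    exact (Valuation.map_add _ _ _).trans (max_le (ht V hd).le ((V.valuation_le_one_iff _).2 (hd.1 b)))
  have key : ∀ (V : ValuationSubring L) (hd : EtRam.Dominates A (algebraMap A L) V),
      letI : Algebra A V := (RingHom.codRestrict (algebraMap A L) V hd.1).toAlgebra
      ∀ [IsLocalHom (algebraMap A V)],
        LinearIndependent (ResidueField A) fun i : Fin p => residue V ⟨t, hw V hd⟩ ^ (i : ℕ) := by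
    intro V hd
    letI : Algebra A V := (RingHom.codRestrict (algebraMap A L) V hd.1).toAlgebra
    intro _
    set ω := residue V ⟨t, hw V hd⟩
    have hω : ω ^ p = algebraMap (ResidueField A) (ResidueField V) (residue A b) := by
      show residue V ⟨t, hw V hd⟩ ^ p = residue V (algebraMap A V b)
      rw [← map_pow]
      exact Ideal.Quotient.eq.2 ((V.valuation_lt_one_iff _).2 (ht V hd))
    have hmin : X ^ p - C (residue A b) = minpoly (ResidueField A) ω := minpoly.eq_of_irreducible_of_monic hirr
      (by rw [map_sub, map_pow, aeval_X, aeval_C, hω, sub_self]) (monic_X_pow_sub_C _ hp.ne_zero)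
    have hd' : (minpoly (ResidueField A) ω).natDegree = p := by rw [← hmin, natDegree_X_pow_sub_C]
    exact (_root_.linearIndependent_pow (K := ResidueField A) ω).comp (Fin.cast hd'.symm) (Fin.cast_injective _)
  have hres : ∀ V, EtRam.Dominates A (algebraMap A L) V → ∀ α : Fin p → A,
      V.valuation (∑ i : Fin p, algebraMap A L (α i) * t ^ (i : ℕ)) < 1 → ∀ i, α i ∈ maximalIdeal A := by
    intro V hd α hα
    letI : Algebra A V := (RingHom.codRestrict (algebraMap A L) V hd.1).toAlgebra
    haveI : IsLocalHom (algebraMap A V) := ⟨fun c hc => by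
      by_contra hc'
      exact (mem_maximalIdeal _).1 ((V.valuation_lt_one_iff _).2 (hd.2 c ((mem_maximalIdeal _).2 hc'))) hc⟩
    have hli := Fintype.linearIndependent_iff.1 (key V hd) (fun i => residue A (α i)) ?_
    · exact fun i => (residue_eq_zero_iff _).1 (hli i)
    have h0 : residue V (∑ i : Fin p, algebraMap A V (α i) * ⟨t, hw V hd⟩ ^ (i : ℕ)) = 0 := by
      refine (residue_eq_zero_iff _).2 ((V.valuation_lt_one_iff _).2 ?_)
      rw [show ((∑ i : Fin p, algebraMap A V (α i) * (⟨t, hw V hd⟩ : V) ^ (i : ℕ) : V) : L) =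
        V.subtype (∑ i : Fin p, algebraMap A V (α i) * (⟨t, hw V hd⟩ : V) ^ (i : ℕ)) from rfl, map_sum]
      exact hα
    rw [← h0, map_sum]
    exact Finset.sum_congr rfl fun i _ => by rw [Algebra.smul_def, map_mul, map_pow]; rfl
  exact isWeaklyUnramified_monogenic (K := K) hπ hw hres hdeg V hd

end Groth.Agent.EtRam93
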